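import Cfsg.Agent.Lib.CoprimeRankThree.Word
import Cfsg.Agent.Lib.Solvable.CoprimeMulAction
import Mathlib.GroupTheory.Schreier
import Mathlib.Data.Nat.Factorization.Basic

/-!
# The derived subgroup of a group with a coprime action of rank three
-/

set_option autoImplicit false
set_option linter.style.haveILetI false

namespace CfsgLib.CoprimeRankThree

open scoped commutatorElement Nat
open Subgroup SemidirectProduct CfsgLib.Solvable

/-- A group is central by a subgroup of bounded index: the commutator subgroup is bounded. -/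
theorem card_commutator_le_of_index {K : Type*} [Group K] [Finite K] {J : ℕ}
    (hJ : (center K).index ≤ J) :
    Nat.card (_root_.commutator K) ≤ J ^ (J * (J * J) + 1) := by
  classical
  have hJ0 : 0 < J := lt_of_lt_of_le (Nat.pos_of_ne_zero FiniteIndex.index_ne_zero) hJ
  have hc : Nat.card (commutatorSet K) ≤ J * J := by
    refine le_trans ?_ (Nat.mul_le_mul hJ hJ)
    rw [Subgroup.index, ← Nat.card_prod]
    refine Nat.card_le_card_of_surjective (fun z : (K ⧸ center K) × (K ⧸ center K) =>
      (⟨⁅z.1.out, z.2.out⁆, commutator_mem_commutatorSet _ _⟩ : commutatorSet K)) ?_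
    rintro ⟨g, x, y, rfl⟩
    refine ⟨((x : K ⧸ center K), (y : K ⧸ center K)), Subtype.ext ?_⟩
    obtain ⟨u, hu⟩ := QuotientGroup.mk_out_eq_mul (center K) x
    obtain ⟨v, hv⟩ := QuotientGroup.mk_out_eq_mul (center K) y
    simp only
    rw [hu, hv]
    have h1 : Commute ((u : K)) y := (Subgroup.mem_center_iff.1 u.2 y).symm
    have h2 : Commute ((v : K)) x := (Subgroup.mem_center_iff.1 v.2 x).symm
    have h3 : Commute ((v : K)) y := (Subgroup.mem_center_iff.1 v.2 y).symm
    have h4 : Commute ((v : K)) u := (Subgroup.mem_center_iff.1 v.2 u).symm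
    have hu' : ∀ k : K, (u : K) * k = k * u := fun k => (Subgroup.mem_center_iff.1 u.2 k).symm
    have hv' : ∀ k : K, (v : K) * k = k * v := fun k => (Subgroup.mem_center_iff.1 v.2 k).symm
    simp only [commutatorElement_def]
    calc x * (u : K) * (y * v) * (x * (u : K))⁻¹ * (y * v)⁻¹
        = x * ((u : K) * (y * v)) * ((u : K)⁻¹ * x⁻¹) * ((v : K)⁻¹ * y⁻¹) := by group
      _ = x * y * ((v : K) * x⁻¹) * ((v : K)⁻¹ * y⁻¹) := by rw [hu']; group
      _ = x * y * x⁻¹ * y⁻¹ := by rw [hv']; group
  refine le_trans (Nat.le_of_dvd (pow_pos (Nat.pos_of_ne_zero FiniteIndex.index_ne_zero) _)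
    (card_commutator_dvd_index_center_pow K)) ?_
  exact le_trans (Nat.pow_le_pow_left hJ _)
    (Nat.pow_le_pow_right hJ0 (by have := Nat.mul_le_mul hJ hc; omega))

/-- A group generated by boundedly many elements with small classes and orders is bounded. -/
theorem card_le_of_small_generators {G : Type*} [Group G] [Finite G] (T : Finset G) {n I e : ℕ}
    (hn : T.card ≤ n) (hI : ∀ t ∈ T, (centralizer ({t} : Set G)).index ≤ I) (hI1 : 1 ≤ I)
    (he : 0 < e) (hord : ∀ t ∈ T, t ^ e = 1) :
    Nat.card (closure (T : Set G)) ≤ (I ^ n) ^ (I ^ n * (I ^ n * I ^ n) + 1) * e ^ n := by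
  classical
  set K := closure (T : Set G) with hK
  have hcent : (center K).index ≤ I ^ n := by
    have hle : (⨅ t : T, centralizer ({(t : G)} : Set G)).subgroupOf K ≤ center K := by
      intro x hx
      have hKle : K ≤ centralizer ({(x : G)} : Set G) := by
        refine (closure_le _).2 ?_
        intro t ht
        have h1 : (x : G) ∈ centralizer ({t} : Set G) :=
          Subgroup.mem_iInf.1 (Subgroup.mem_subgroupOf.1 hx) ⟨t, ht⟩
        exact mem_centralizer_singleton_iff.2 (mem_centralizer_singleton_iff.1 h1).symm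
      exact Subgroup.mem_center_iff.2 fun k =>
        Subtype.ext (mem_centralizer_singleton_iff.1 (hKle k.2))
    refine le_trans (Nat.le_of_dvd (Nat.pos_of_ne_zero FiniteIndex.index_ne_zero)
      (Subgroup.index_dvd_of_le hle)) ?_
    refine le_trans (le_trans ?_ (Subgroup.index_iInf_le
      (fun t : T => centralizer ({(t : G)} : Set G)))) ?_
    · rw [← Subgroup.relIndex_top_right (⨅ t : T, centralizer ({(t : G)} : Set G))]
      exact Subgroup.relIndex_le_of_le_right le_top
        (by rw [Subgroup.relIndex_top_right]; exact FiniteIndex.index_ne_zero)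
    · refine le_trans (Finset.prod_le_pow_card _ _ I fun t _ => hI t t.2) ?_
      exact Nat.pow_le_pow_right hI1 (by simpa using hn)
  have hab : Nat.card (Abelianization K) ≤ e ^ n := by
    haveI : Finite (Abelianization K) := Finite.of_surjective _ QuotientGroup.mk_surjective
    haveI : Group.FG (Abelianization K) := Group.fg_of_finite
    haveI : Group.FG K := Group.fg_of_finite
    have hr : Group.rank (Abelianization K) ≤ n :=
      le_trans (Group.rank_le_of_surjective Abelianization.of QuotientGroup.mk_surjective)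
        (le_trans (Subgroup.rank_closure_finset_le_card T) hn)
    have hker : ∀ g : Abelianization K, g ^ e = 1 := by
      let E : Subgroup (Abelianization K) := (powMonoidHom e).ker
      suffices h : E = ⊤ by
        intro g
        have hg : g ∈ E := h ▸ Subgroup.mem_top g
        exact hg
      have htop : (⊤ : Subgroup K) ≤ E.comap Abelianization.of := by
        rw [← Subgroup.closure_preimage_eq_top (T : Set G), closure_le]
        intro x hx
        show Abelianization.of x ^ e = 1
        rw [← map_pow, show x ^ e = 1 from Subtype.ext (by simpa using hord (x : G) hx), map_one]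
      rw [eq_top_iff]
      intro g _
      obtain ⟨x, rfl⟩ := QuotientGroup.mk_surjective g
      exact htop (Subgroup.mem_top x)
    refine le_trans (Nat.le_of_dvd (pow_pos he _) (card_dvd_exponent_pow_rank' _ hker)) ?_
    exact Nat.pow_le_pow_right he hr
  rw [Subgroup.card_eq_card_quotient_mul_card_subgroup (_root_.commutator K), mul_comm]
  exact Nat.mul_le_mul (card_commutator_le_of_index hcent) hab

universe u

variable {A G : Type u} [Group A] [Finite A] [Group G] [Finite G] [MulDistribMulAction A G]

/-- The subgroups of `A` of index at most `q`. -/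
abbrev Big (A : Type*) [Group A] (q : ℕ) := {B : Subgroup A // q ^ 2 ≤ Nat.card B}

/-- Invariant subgroups are generated by the fixed points of large subgroups of `A`. -/
theorem le_closure_fixed {q : ℕ} (hq : q.Prime) (hA : Nat.card A = q ^ 3)
    (hcomm : ∀ a b : A, a * b = b * a) (hexp : ∀ a : A, a ^ q = 1) (hG : ¬ q ∣ Nat.card G)
    (D : Subgroup G) (hD : ∀ a : A, ∀ d ∈ D, a • d ∈ D) :
    D ≤ closure {x | x ∈ D ∧ ∃ B : Big A q, x ∈ FixedPoints.subgroup B.1 G} := by
  have := finite_actSemi (A := A) (K := G)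
  have e : A ≃* (actTop : Subgroup (ActSemi A G)) := MonoidHom.ofInjective inr_injective
  have : IsMulCommutative (actTop : Subgroup (ActSemi A G)) := ⟨⟨fun x y => e.symm.injective (by
    rw [map_mul, map_mul, hcomm])⟩⟩
  set W := closure {x | x ∈ D ∧ ∃ B : Big A q, x ∈ FixedPoints.subgroup B.1 G}
  have h : D.map (inl : G →* ActSemi A G) ≤ W.map inl := by
    refine le_of_cyclic_quotient_centralizer_le (A := (actTop : Subgroup (ActSemi A G)))
      (actTop_le_normalizer_map hD) ?_ ?_
    · rw [card_actTop, Subgroup.card_map_of_injective inl_injective, hA]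
      exact Nat.Coprime.pow_left 3 (hq.coprime_iff_not_dvd.2
        fun h => hG (h.trans (card_subgroup_dvd_card D)))
    · intro B hB hcyc
      obtain ⟨_, ⟨a, rfl⟩, hgen⟩ := hcyc
      rintro _ ⟨⟨x, hx, rfl⟩, hxB⟩
      set B₀ := B.comap (inr : A →* ActSemi A G)
      have hcard : q ^ 2 ≤ Nat.card B₀ := by
        have hsurj : Function.Surjective (fun z : B₀ × zpowers a => (z.1 : A) * z.2) := by
          intro y
          have h1 : (inr y : ActSemi A G) ∈ (B₀ ⊔ zpowers a).map inr := by
            rw [Subgroup.map_sup, MonoidHom.map_zpowers, Subgroup.map_comap_eq_self hB]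
            exact hgen ⟨y, rfl⟩
          obtain ⟨y', hy', he⟩ := h1
          rw [inr_injective he] at hy'
          haveI : B₀.Normal := ⟨fun n hn g => by rwa [hcomm g n, mul_inv_cancel_right]⟩
          obtain ⟨b, hb, c, hc, hbc⟩ := Subgroup.mem_sup_of_normal_left.1 (SetLike.mem_coe.1 hy')
          exact ⟨(⟨b, hb⟩, ⟨c, hc⟩), hbc⟩
        have h1 := Nat.card_le_card_of_surjective _ hsurj
        rw [Nat.card_prod, hA, Nat.card_zpowers] at h1
        have h2 : orderOf a ≤ q := Nat.le_of_dvd hq.pos (orderOf_dvd_of_pow_eq_one (hexp a))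
        have h3 : q ^ 3 ≤ Nat.card B₀ * q := h1.trans (Nat.mul_le_mul_left _ h2)
        rw [pow_succ] at h3
        exact Nat.le_of_mul_le_mul_right h3 hq.pos
      refine mem_map_of_mem _ (subset_closure ⟨hx, ⟨B₀, hcard⟩, fun b => ?_⟩)
      have h1 : (inr (b : A) : ActSemi A G) * inl x = inl x * inr (b : A) := hxB _ b.2
      apply @inl_injective _ _ _ _ (MulDistribMulAction.toMulAut A G)
      show inl ((b : A) • x) = inl x
      rw [← inr_mul_inl_mul_inv, h1, mul_inv_cancel_right]
  intro d hd
  obtain ⟨w, hw, hwd⟩ := h (mem_map_of_mem _ hd)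
  exact inl_injective hwd ▸ hw

/-- The bound on the conjugates of a fixed point. -/
def conjBound (q m : ℕ) : ℕ := ∑ i ∈ Finset.range (2 ^ (q ^ 3) + 1), growth (q ^ 3 * m) i

/-- The bound on the derived subgroup. -/
def bound (q m : ℕ) : ℕ :=
  let I := (conjBound q m)! * (conjBound q m)!
  let n := q ^ 3 * m * I
  (I ^ n) ^ (I ^ n * (I ^ n * I ^ n) + 1) * (m !) ^ n

theorem card_commutator_le (q m : ℕ) (hq : q.Prime) (hA : Nat.card A = q ^ 3)
    (hcomm : ∀ a b : A, a * b = b * a) (hexp : ∀ a : A, a ^ q = 1) (hG : ¬ q ∣ Nat.card G)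
    (hm : ∀ a : A, a ≠ 1 →
      Nat.card ↥(_root_.commutator ↥(FixedPoints.subgroup (Subgroup.zpowers a) G)) ≤ m) :
    Nat.card ↥(_root_.commutator G) ≤ bound q m := by
  classical
  cases nonempty_fintype G
  cases nonempty_fintype A
  have hsolv : Group.IsSolvable A ∨ Group.IsSolvable G :=
    Or.inl (Group.isSolvable_of_comm hcomm)
  have hcop : (Nat.card A).Coprime (Nat.card G) := by
    rw [hA]; exact Nat.Coprime.pow_left 3 (hq.coprime_iff_not_dvd.2 hG)
  let U : Finset G := Finset.univ.filter fun x => ∃ B : Big A q, x ∈ FixedPoints.subgroup B.1 G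
  have hU : ∀ x, x ∈ U ↔ ∃ B : Big A q, x ∈ FixedPoints.subgroup B.1 G := fun x => by simp [U]
  set T := Finset.image₂ (fun x y : G => ⁅x, y⁆) U U with hTdef
  -- commutators of fixed points lie in the derived subgroups of the centralizers
  have hT : ∀ t ∈ T, ∃ (a : A), a ≠ 1 ∧
      t ∈ (_root_.commutator ↥(FixedPoints.subgroup (Subgroup.zpowers a) G)).map
        (FixedPoints.subgroup (Subgroup.zpowers a) G).subtype := by
    intro t ht
    obtain ⟨x, hx, y, hy, rfl⟩ := Finset.mem_image₂.1 ht
    obtain ⟨B, hB⟩ := (hU x).1 hx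
    obtain ⟨C, hC⟩ := (hU y).1 hy
    obtain ⟨a, haB, haC, ha1⟩ : ∃ a, a ∈ B.1 ∧ a ∈ C.1 ∧ a ≠ 1 := by
      by_contra! hno
      have hinj : Function.Injective (fun z : B.1 × C.1 => (z.1 : A) * z.2) := by
        rintro ⟨b, c⟩ ⟨b', c'⟩ h
        simp only at h
        have h1 : (b' : A)⁻¹ * b = c' * (c : A)⁻¹ := by
          rw [eq_mul_inv_iff_mul_eq, mul_assoc, h, inv_mul_cancel_left]
        have h2 := hno _ (B.1.mul_mem (B.1.inv_mem b'.2) b.2)
          (h1 ▸ C.1.mul_mem c'.2 (C.1.inv_mem c.2))
        have h3 : (b' : A) = b := inv_mul_eq_one.1 h2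
        rw [h2, eq_comm, mul_inv_eq_one] at h1
        exact Prod.ext (Subtype.ext h3.symm) (Subtype.ext h1.symm)
      have h4 := Nat.card_le_card_of_injective _ hinj
      rw [Nat.card_prod, hA] at h4
      have h5 := Nat.mul_le_mul B.2 C.2
      rw [← pow_add] at h5
      have h6 : q ^ 3 < q ^ (2 + 2) := Nat.pow_lt_pow_right hq.one_lt (by norm_num)
      omega
    have hfix : ∀ (D : Subgroup A), a ∈ D → ∀ z ∈ FixedPoints.subgroup D G,
        z ∈ FixedPoints.subgroup (Subgroup.zpowers a) G := fun D hD z hz b =>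
      hz ⟨b, Subgroup.zpowers_le.2 hD b.2⟩
    exact ⟨a, ha1, ⁅⟨x, hfix _ haB x hB⟩, ⟨y, hfix _ haC y hC⟩⁆,
      commutator_mem_commutator (Subgroup.mem_top _) (Subgroup.mem_top _), rfl⟩
  have hTcard : T.card ≤ q ^ 3 * m := by
    refine le_trans (Finset.card_le_card (t := (Finset.univ.filter fun a : A => a ≠ 1).biUnion
      fun a => Finset.univ.filter fun t : G =>
        t ∈ (_root_.commutator ↥(FixedPoints.subgroup (Subgroup.zpowers a) G)).map
          (FixedPoints.subgroup (Subgroup.zpowers a) G).subtype) fun t ht => ?_) ?_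
    · obtain ⟨a, ha, h⟩ := hT t ht
      exact Finset.mem_biUnion.2 ⟨a, by simp [ha], by simpa using h⟩
    · refine le_trans (Finset.card_biUnion_le_card_mul _ _ m fun a ha => ?_)
        (Nat.mul_le_mul_right _ ((Finset.card_filter_le _ _).trans
          (by rw [Finset.card_univ, ← Nat.card_eq_fintype_card, hA])))
      rw [← Fintype.card_subtype, ← Nat.card_eq_fintype_card]
      refine le_of_eq_of_le ?_ (hm a (Finset.mem_filter.1 ha).2)
      exact Subgroup.card_map_of_injective (Subgroup.subtype_injective _)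
  -- bounded classes
  set H := conjBound q m with hH
  have hidx : ∀ x ∈ U, (centralizer ({x} : Set G)).index ∣ H ! := by
    intro x hx
    set C := centralizer ({x} : Set G) with hCdef
    rw [Nat.dvd_iff_prime_pow_dvd_dvd]
    intro p e hp hdvd
    haveI := Fact.mk hp
    obtain ⟨P, -, hPinv⟩ := exists_smul_invariant_sylow hcop hsolv p (U := ⊥)
      IsPGroup.of_bot (fun a u hu => by rw [Subgroup.mem_bot] at hu ⊢; rw [hu, smul_one])
    haveI hnil : Group.IsNilpotent (P : Subgroup G) := P.2.isNilpotent
    let F : Big A q → Subgroup G := fun B => FixedPoints.subgroup B.1 G ⊓ (P : Subgroup G)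
    have hgen : ∀ j, (P : Subgroup G).lowerCentralSeries j ≤
        closure {z | z ∈ (P : Subgroup G).lowerCentralSeries j ∧ ∃ B, z ∈ F B} := by
      intro j
      have hinv : ∀ a : A, ∀ d ∈ (P : Subgroup G).lowerCentralSeries j,
          a • d ∈ (P : Subgroup G).lowerCentralSeries j := by
        intro a d hd
        let ψ : G →* G := MulDistribMulAction.toMonoidHom G a
        have h1 : ψ d ∈ ((P : Subgroup G).lowerCentralSeries j).map ψ := mem_map_of_mem _ hd
        rw [Subgroup.map_lowerCentralSeries] at h1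
        refine Subgroup.lowerCentralSeries_mono j ?_ h1
        rintro _ ⟨z, hz, rfl⟩
        exact hPinv a z hz
      refine (le_closure_fixed hq hA hcomm hexp hG _ hinv).trans (Subgroup.closure_mono ?_)
      rintro z ⟨hz, B, hB⟩
      exact ⟨hz, B, hB, (P : Subgroup G).lowerCentralSeries_antitone (Nat.zero_le j) hz⟩
    let L : List (Big A q) := (Finset.univ : Finset (Big A q)).toList
    have hL : L.length ≤ 2 ^ (q ^ 3) := by
      rw [Finset.length_toList, Finset.card_univ, ← hA, Nat.card_eq_fintype_card,
        ← Fintype.card_set]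
      exact Fintype.card_le_of_injective (fun B => (B.1 : Set A))
        fun B C h => Subtype.ext (SetLike.coe_injective h)
    have hbound : ((P : Subgroup G) ⊓ C).relIndex (P : Subgroup G) ≤ H := by
      have h1 : (Finset.univ.filter (fun g : G => g ∈ (P : Subgroup G))).image
          (fun g => g * x * g⁻¹) ⊆ (words U L.length).image (fun g => g * x * g⁻¹) := by
        refine Finset.image_subset_image fun g hg => ?_
        rw [Finset.mem_filter] at hg
        exact (isProd_of_mem F P hnil (fun B => inf_le_right) hgen L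
          (fun B => Finset.mem_toList.2 (Finset.mem_univ _)) hg.2).mem_words
          (fun B z (hz : z ∈ F B) => (hU z).2 ⟨B, (Subgroup.mem_inf.1 hz).1⟩)
      have h2 := (Finset.card_le_card h1).trans (card_conj_words_le U hTcard L.length x hx)
      refine le_trans ?_ (h2.trans (Finset.single_le_sum (fun i _ => Nat.zero_le _)
        (Finset.mem_range.2 (Nat.lt_succ_of_le hL))))
      rw [Subgroup.relIndex, Subgroup.index, ← Nat.card_eq_finsetCard]
      refine Nat.card_le_card_of_injective (fun c => ⟨(c.out : G) * x * (c.out : G)⁻¹,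
        Finset.mem_image_of_mem _ (by simp)⟩) fun c d h => ?_
      have h' : (c.out : G) * x * (c.out : G)⁻¹ = (d.out : G) * x * (d.out : G)⁻¹ :=
        congrArg Subtype.val h
      rw [← c.out_eq, ← d.out_eq]
      refine QuotientGroup.eq.2 ?_
      rw [Subgroup.mem_subgroupOf]
      refine ⟨((c.out)⁻¹ * d.out).2, mem_centralizer_singleton_iff.2 ?_⟩
      simp only [Subgroup.coe_mul, Subgroup.coe_inv]
      calc (c.out : G)⁻¹ * d.out * x
          = (c.out : G)⁻¹ * ((d.out : G) * x * (d.out : G)⁻¹) * d.out := by group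
        _ = (c.out : G)⁻¹ * ((c.out : G) * x * (c.out : G)⁻¹) * d.out := by rw [h']
        _ = x * ((c.out : G)⁻¹ * d.out) := by group
    obtain ⟨j, -, hj⟩ : ∃ j, j ≤ (Nat.card (P : Subgroup G)) ∧
        ((P : Subgroup G) ⊓ C).relIndex (P : Subgroup G) = p ^ j := by
      obtain ⟨k, hk⟩ := P.2.exists_card_eq
      have hd : ((P : Subgroup G) ⊓ C).relIndex (P : Subgroup G) ∣ p ^ k :=
        hk ▸ Subgroup.relIndex_dvd_card _ _
      obtain ⟨j, hj, hje⟩ := (Nat.dvd_prime_pow hp).1 hd
      exact ⟨j, hk ▸ hj.trans (Nat.lt_pow_self hp.one_lt).le, hje⟩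
    have hej : p ^ e ∣ p ^ j := by
      have h1 : Nat.card (P : Subgroup G) =
          p ^ j * Nat.card ((P : Subgroup G) ⊓ C : Subgroup G) := by
        rw [← hj, Subgroup.relIndex, ← Nat.card_congr (Subgroup.subgroupOfEquivOfLe
          (inf_le_left : (P : Subgroup G) ⊓ C ≤ P)).toEquiv, Subgroup.index_mul_card]
      have h2 : p ^ e * Nat.card ((P : Subgroup G) ⊓ C : Subgroup G) ∣ Nat.card G := by
        rw [← C.index_mul_card]
        exact mul_dvd_mul hdvd (Subgroup.card_dvd_of_le inf_le_right)
      obtain ⟨k, hk⟩ := (P.2.to_le (inf_le_left : (P : Subgroup G) ⊓ C ≤ P)).exists_card_eq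
      rw [hk, ← pow_add] at h1 h2
      rw [hp.pow_dvd_iff_le_factorization Nat.card_pos.ne'] at h2
      rw [P.card_eq_multiplicity] at h1
      have := Nat.pow_right_injective hp.two_le h1
      exact pow_dvd_pow p (by omega)
    refine hej.trans (Nat.dvd_factorial (pow_pos hp.pos j) ?_)
    rw [← hj]
    exact hbound
  have hidxT : ∀ t ∈ T, (centralizer ({t} : Set G)).index ≤ H ! * H ! := by
    intro t ht
    obtain ⟨x, hx, y, hy, rfl⟩ := Finset.mem_image₂.1 ht
    refine le_trans (Nat.le_of_dvd (Nat.pos_of_ne_zero FiniteIndex.index_ne_zero)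
      (Subgroup.index_dvd_of_le (H := centralizer ({x} : Set G) ⊓ centralizer ({y} : Set G)) ?_))
      (le_trans (Subgroup.index_inf_le) (Nat.mul_le_mul (Nat.le_of_dvd (Nat.factorial_pos _) (hidx x hx))
        (Nat.le_of_dvd (Nat.factorial_pos _) (hidx y hy))))
    rintro z ⟨hzx, hzy⟩
    have h1 : Commute z x := mem_centralizer_singleton_iff.1 hzx
    have h2 : Commute z y := mem_centralizer_singleton_iff.1 hzy
    exact mem_centralizer_singleton_iff.2
      (show Commute z ⁅x, y⁆ from ((h1.mul_right h2).mul_right h1.inv_right).mul_right h2.inv_right)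
  -- the derived subgroup is generated by the conjugates
  let T' : Finset G := T.biUnion fun t => Finset.univ.image fun g : G => g * t * g⁻¹
  have hT'card : T'.card ≤ q ^ 3 * m * (H ! * H !) := by
    refine le_trans (Finset.card_biUnion_le_card_mul _ _ (H ! * H !) fun t ht => ?_)
      (Nat.mul_le_mul_right _ hTcard)
    refine le_trans (le_of_le_of_eq ?_ rfl) (hidxT t ht)
    rw [Subgroup.index, ← Nat.card_eq_finsetCard]
    refine Nat.card_le_card_of_surjective (fun c => ⟨(c.out : G) * t * (c.out : G)⁻¹,
      Finset.mem_image_of_mem _ (Finset.mem_univ _)⟩) ?_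
    rintro ⟨z, hz⟩
    obtain ⟨g, -, rfl⟩ := Finset.mem_image.1 hz
    refine ⟨(g : G ⧸ centralizer ({t} : Set G)), Subtype.ext ?_⟩
    obtain ⟨c, hc⟩ := QuotientGroup.mk_out_eq_mul (centralizer ({t} : Set G)) g
    simp only
    rw [hc, mul_inv_rev, mul_assoc g (c : G), mem_centralizer_singleton_iff.1 c.2]
    group
  have hidxT' : ∀ t ∈ T', (centralizer ({t} : Set G)).index ≤ H ! * H ! ∧ t ^ m ! = 1 := by
    intro z hz
    obtain ⟨t, ht, hz'⟩ := Finset.mem_biUnion.1 hz
    obtain ⟨g, -, rfl⟩ := Finset.mem_image.1 hz'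
    constructor
    · have he : (centralizer ({t} : Set G)).map (MulAut.conj g).toMonoidHom =
          centralizer ({g * t * g⁻¹} : Set G) := by
        ext y
        simp only [Subgroup.mem_map, MulEquiv.coe_toMonoidHom, MulAut.conj_apply,
          mem_centralizer_singleton_iff]
        constructor
        · rintro ⟨w, hw, rfl⟩
          calc g * w * g⁻¹ * (g * t * g⁻¹) = g * (w * t) * g⁻¹ := by group
            _ = g * t * g⁻¹ * (g * w * g⁻¹) := by rw [hw]; group
        · intro hy
          refine ⟨g⁻¹ * y * g, ?_, by group⟩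
          calc g⁻¹ * y * g * t = g⁻¹ * (y * (g * t * g⁻¹)) * g := by group
            _ = t * (g⁻¹ * y * g) := by rw [hy]; group
      rw [← he, Subgroup.index_map_of_bijective (f := (MulAut.conj g).toMonoidHom) (MulAut.conj g).bijective]
      exact hidxT t ht
    · obtain ⟨a, ha, c, hc, rfl⟩ := hT t ht
      have h1 : (⟨c, hc⟩ : _root_.commutator ↥(FixedPoints.subgroup (Subgroup.zpowers a) G)) ^ m ! = 1 := by
        obtain ⟨k, hk⟩ := Nat.dvd_factorial Nat.card_pos (hm a ha)
        rw [hk, pow_mul, pow_card_eq_one', one_pow]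
      rw [conj_pow, Subgroup.coe_subtype, ← SubmonoidClass.coe_pow,
        show c ^ m ! = 1 from congrArg Subtype.val h1]
      simp
  have hle : _root_.commutator G ≤ closure (T' : Set G) := by
    set N := closure (T' : Set G)
    haveI hN : N.Normal := by
      refine ⟨fun z hz g => ?_⟩
      have : N ≤ N.comap (MulAut.conj g).toMonoidHom := by
        rw [closure_le]
        intro w hw
        obtain ⟨t, ht, hw'⟩ := Finset.mem_biUnion.1 (Finset.mem_coe.1 hw)
        obtain ⟨g', -, rfl⟩ := Finset.mem_image.1 hw'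
        refine subset_closure (Finset.mem_coe.2 (Finset.mem_biUnion.2 ⟨t, ht,
          Finset.mem_image.2 ⟨g * g', Finset.mem_univ _, ?_⟩⟩))
        simp [MulAut.conj_apply, mul_assoc]
      exact this hz
    set π := QuotientGroup.mk' N
    have hUgen : closure (U : Set G) = ⊤ := top_le_iff.1 ((le_closure_fixed hq hA hcomm hexp hG ⊤
      fun _ _ _ => Subgroup.mem_top _).trans (Subgroup.closure_mono fun z hz =>
        Finset.mem_coe.2 ((hU z).2 hz.2)))
    have hπ : ∀ x ∈ U, ∀ y ∈ U, Commute (π x) (π y) := fun x hx y hy => by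
      rw [← commutatorElement_eq_one_iff_commute, ← map_commutatorElement]
      exact (QuotientGroup.eq_one_iff _).2 (subset_closure (Finset.mem_coe.2 (Finset.mem_biUnion.2
        ⟨_, Finset.mem_image₂_of_mem hx hy, Finset.mem_image.2 ⟨1, Finset.mem_univ _, by group⟩⟩)))
    have hone : ∀ x ∈ U, ∀ y : G, Commute (π x) (π y) := by
      intro x hx
      have h : closure (U : Set G) ≤ (centralizer ({π x} : Set (G ⧸ N))).comap π := by
        rw [closure_le]
        intro y hy
        exact mem_centralizer_singleton_iff.2 (hπ x hx y hy).eq.symm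
      exact fun y => (mem_centralizer_singleton_iff.1 (h (hUgen ▸ Subgroup.mem_top y))).symm
    have hall : ∀ x y : G, Commute (π x) (π y) := by
      intro x y
      have h : closure (U : Set G) ≤ (centralizer ({π y} : Set (G ⧸ N))).comap π := by
        rw [closure_le]
        intro z hz
        exact mem_centralizer_singleton_iff.2 (hone z hz y).eq
      exact mem_centralizer_singleton_iff.1 (h (hUgen ▸ Subgroup.mem_top x))
    rw [_root_.commutator_def, commutator_le]
    intro x _ y _
    exact (QuotientGroup.eq_one_iff _).1 (by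
      show π ⁅x, y⁆ = 1
      rw [map_commutatorElement, commutatorElement_eq_one_iff_commute]
      exact hall x y)
  refine le_trans (Subgroup.card_le_of_le hle) ?_
  exact card_le_of_small_generators T' hT'card (fun t ht => (hidxT' t ht).1)
    (Nat.mul_pos (Nat.factorial_pos _) (Nat.factorial_pos _)) (Nat.factorial_pos _)
    (fun t ht => (hidxT' t ht).2)

end CfsgLib.CoprimeRankThree
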