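import Mathlib.GroupTheory.Nilpotent
import Mathlib.GroupTheory.OrderOfElement
import Mathlib.Data.Finset.NAry
import Mathlib.Data.Nat.Factorial.Basic

/-!
# Bounded products of generators and the growth of conjugates under such products
-/

set_option autoImplicit false

namespace CfsgLib.CoprimeRankThree

open scoped commutatorElement

variable {G : Type*} [Group G]

/-- Products along a list of subgroups. -/
inductive IsProd {ι : Type*} (F : ι → Subgroup G) : List ι → G → Prop
  | nil : IsProd F [] 1
  | cons {i : ι} {L : List ι} {c r : G} : c ∈ F i → IsProd F L r → IsProd F (i :: L) (c * r)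

theorem IsProd.one {ι : Type*} (F : ι → Subgroup G) : ∀ L : List ι, IsProd F L 1
  | [] => .nil
  | i :: L => by simpa using IsProd.cons (F i).one_mem (IsProd.one F L)

theorem IsProd.mem {ι : Type*} {F : ι → Subgroup G} {P : Subgroup G} (hF : ∀ i, F i ≤ P)
    {L : List ι} {g : G} (h : IsProd F L g) : g ∈ P := by
  induction h with
  | nil => exact P.one_mem
  | cons hc _ ih => exact P.mul_mem (hF _ hc) ih

variable [Finite G]

/-- In a nilpotent subgroup whose lower central terms are generated by their intersections with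
some subgroups, every element is a product along any list of all these subgroups. -/
theorem isProd_of_mem {ι : Type*} (F : ι → Subgroup G) (P : Subgroup G) (hnil : Group.IsNilpotent P)
    (hF : ∀ i, F i ≤ P)
    (hgen : ∀ j, P.lowerCentralSeries j ≤
      Subgroup.closure {x | x ∈ P.lowerCentralSeries j ∧ ∃ i, x ∈ F i})
    (L : List ι) (hL : ∀ i, i ∈ L) {g : G} (hg : g ∈ P) : IsProd F L g := by
  have key : ∀ j, ∀ g ∈ P, ∃ g', IsProd F L g' ∧ g'⁻¹ * g ∈ P.lowerCentralSeries j := by
    intro j
    induction j with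
    | zero => exact fun g hg => ⟨1, IsProd.one F L, by simpa using hg⟩
    | succ j ih =>
      set D := P.lowerCentralSeries j
      set N := P.lowerCentralSeries (j + 1)
      have hDP : D ≤ P := P.lowerCentralSeries_antitone (Nat.zero_le j)
      have hins : ∀ (L' : List ι) (i : ι), i ∈ L' → ∀ d ∈ D, d ∈ F i → ∀ g, IsProd F L' g →
          ∃ g', IsProd F L' g' ∧ g'⁻¹ * (g * d) ∈ N := by
        intro L'
        induction L' with
        | nil => simp
        | cons k L' ihL =>
          intro i hi d hd hdi g hgp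
          cases hgp with
          | cons hc hr =>
            rename_i c r
            rcases List.mem_cons.1 hi with rfl | hi'
            · refine ⟨c * d * r, IsProd.cons ((F i).mul_mem hc hdi) hr, ?_⟩
              have hN : N = ⁅P, D⁆ := Subgroup.commutator_comm _ _
              rw [hN, show (c * d * r)⁻¹ * (c * r * d) = ⁅r⁻¹, d⁻¹⁆ by
                rw [commutatorElement_def]; group]
              exact Subgroup.commutator_mem_commutator (P.inv_mem (hr.mem hF)) (D.inv_mem hd)
            · obtain ⟨r', hr', hm⟩ := ihL i hi' d hd hdi r hr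
              refine ⟨c * r', IsProd.cons hc hr', ?_⟩
              rwa [show (c * r')⁻¹ * (c * r * d) = r'⁻¹ * (r * d) by group]
      have hD : ∀ d ∈ D, ∀ g, IsProd F L g → ∃ g', IsProd F L g' ∧ g'⁻¹ * (g * d) ∈ N := by
        let S : Submonoid G :=
          { carrier := {d | d ∈ D ∧ ∀ g, IsProd F L g → ∃ g', IsProd F L g' ∧ g'⁻¹ * (g * d) ∈ N}
            one_mem' := ⟨D.one_mem, fun g hgp => ⟨g, hgp, by simp⟩⟩
            mul_mem' := by
              rintro d e ⟨hd, hd'⟩ ⟨he, he'⟩
              refine ⟨D.mul_mem hd he, fun g hgp => ?_⟩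
              obtain ⟨g₁, hg₁, hm₁⟩ := hd' g hgp
              obtain ⟨g₂, hg₂, hm₂⟩ := he' g₁ hg₁
              refine ⟨g₂, hg₂, ?_⟩
              have hn : e⁻¹ * (g₁⁻¹ * (g * d)) * e⁻¹⁻¹ ∈ N :=
                (Subgroup.mem_normalizer_iff.1 (P.self_le_normalizer_lowerCentralSeries (j + 1)
                  (P.inv_mem (hDP he))) _).1 hm₁
              have := N.mul_mem hm₂ hn
              rwa [show g₂⁻¹ * (g₁ * e) * (e⁻¹ * (g₁⁻¹ * (g * d)) * e⁻¹⁻¹) = g₂⁻¹ * (g * (d * e))
                by group] at this }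
        intro d hd
        have h1 : d ∈ Submonoid.closure {x | x ∈ D ∧ ∃ i, x ∈ F i} := by
          rw [← Subgroup.closure_toSubmonoid_of_finite]
          exact hgen j hd
        have h2 : Submonoid.closure {x | x ∈ D ∧ ∃ i, x ∈ F i} ≤ S := by
          rw [Submonoid.closure_le]
          rintro x ⟨hx, i, hxi⟩
          exact ⟨hx, fun g hgp => hins L i (hL i) x hx hxi g hgp⟩
        exact (h2 h1).2
      intro g hg
      obtain ⟨g', hg', hm⟩ := ih g hg
      obtain ⟨g'', hg'', hm'⟩ := hD _ hm g' hg'
      exact ⟨g'', hg'', by rwa [show g''⁻¹ * g = g''⁻¹ * (g' * (g'⁻¹ * g)) by group]⟩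
  obtain ⟨n, hn⟩ := (Subgroup.isNilpotent_iff_lowerCentralSeries P).1 hnil
  obtain ⟨g', hg', hm⟩ := key n g hg
  rw [hn, Subgroup.mem_bot, inv_mul_eq_one] at hm
  exact hm ▸ hg'

variable [DecidableEq G]

/-- Products of `n` elements of `U`. -/
def words (U : Finset G) : ℕ → Finset G
  | 0 => {1}
  | n + 1 => Finset.image₂ (· * ·) (words U n) U

omit [Finite G] in
theorem mul_mem_words {U : Finset G} : ∀ (n : ℕ) {y w : G}, y ∈ U → w ∈ words U n →
    y * w ∈ words U (n + 1)
  | 0, y, w, hy, hw => by
    rw [words, Finset.mem_singleton] at hw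
    exact Finset.mem_image₂.2 ⟨1, Finset.mem_singleton_self 1, y, hy, by rw [hw]; simp⟩
  | n + 1, y, w, hy, hw => by
    obtain ⟨w', hw', z, hz, rfl⟩ := Finset.mem_image₂.1 hw
    exact Finset.mem_image₂.2 ⟨y * w', mul_mem_words n hy hw', z, hz, mul_assoc _ _ _⟩

omit [Finite G] in
theorem IsProd.mem_words {ι : Type*} {F : ι → Subgroup G} {U : Finset G}
    (hU : ∀ i, ∀ x ∈ F i, x ∈ U) {L : List ι} {g : G} (h : IsProd F L g) :
    g ∈ words U L.length := by
  induction h with
  | nil => simp [words]
  | cons hc _ ih => exact mul_mem_words _ (hU _ _ hc) ih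

/-- The growth of the number of conjugates. -/
def growth (N : ℕ) : ℕ → ℕ
  | 0 => 1
  | n + 1 => N * (growth N n * growth N n) * growth N n

omit [Finite G] in
/-- If the commutators of `U` form a small set then bounded products of `U` move each element of
`U` to boundedly many conjugates. -/
theorem card_conj_words_le (U : Finset G) {N : ℕ}
    (hN : (Finset.image₂ (fun x y : G => ⁅x, y⁆) U U).card ≤ N) :
    ∀ n, ∀ x ∈ U, ((words U n).image fun w => w * x * w⁻¹).card ≤ growth N n := by
  intro n
  induction n with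
  | zero => intro x _; simp [words, growth]
  | succ n ih =>
    intro x hx
    set T := Finset.image₂ (fun x y : G => ⁅x, y⁆) U U
    set X := fun y : G => (words U n).image fun w => w * y * w⁻¹
    have hrep : ∀ t ∈ T, ∃ a b, a ∈ U ∧ b ∈ U ∧ ⁅a, b⁆ = t := fun t ht => by
      obtain ⟨a, ha, b, hb, e⟩ := Finset.mem_image₂.1 ht
      exact ⟨a, b, ha, hb, e⟩
    choose! ra rb hra hrb hrab using hrep
    refine le_trans (Finset.card_le_card (t := Finset.image₂ (· * ·)
      (T.biUnion fun t => Finset.image₂ (fun u v : G => ⁅u, v⁆) (X (ra t)) (X (rb t))) (X x)) ?_) ?_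
    · intro z hz
      obtain ⟨w, hw, rfl⟩ := Finset.mem_image.1 hz
      obtain ⟨w', hw', y, hy, rfl⟩ := Finset.mem_image₂.1 hw
      have ht : ⁅y, x⁆ ∈ T := Finset.mem_image₂_of_mem hy hx
      refine Finset.mem_image₂.2 ⟨w' * ⁅y, x⁆ * w'⁻¹, Finset.mem_biUnion.2 ⟨_, ht,
        Finset.mem_image₂.2 ⟨w' * ra ⁅y, x⁆ * w'⁻¹, Finset.mem_image_of_mem _ hw',
          w' * rb ⁅y, x⁆ * w'⁻¹, Finset.mem_image_of_mem _ hw', ?_⟩⟩, w' * x * w'⁻¹,
        Finset.mem_image_of_mem _ hw', ?_⟩
      · conv_rhs => rw [← hrab _ ht]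
        simp only [commutatorElement_def]
        group
      · simp only [commutatorElement_def]
        group
    · refine le_trans (Finset.card_image₂_le _ _ _) (Nat.mul_le_mul ?_ (ih x hx))
      refine le_trans (Finset.card_biUnion_le_card_mul _ _ (growth N n * growth N n) fun t ht => ?_)
        (Nat.mul_le_mul_right _ hN)
      exact le_trans (Finset.card_image₂_le _ _ _)
        (Nat.mul_le_mul (ih _ (hra t ht)) (ih _ (hrb t ht)))

end CfsgLib.CoprimeRankThree
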